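/-
Core library: `N(Z(J(S)))` controls fusion when the normalizers of the subgroups above `Z(S)` have no
section `SL(2, p)`.
-/
import Cfsg.Agent.Core.StableZJ.Fusion
import Cfsg.Agent.Core.StableZJ.PlaneOdd
import Cfsg.Agent.Dickson.Stability
import Cfsg.Agent.TwoGroups.CentricAlperin
import Cfsg.Agent.FGS2.MaxCentralizer

set_option autoImplicit false
set_option linter.style.haveILetI false
set_option linter.unusedSectionVars false
set_option maxHeartbeats 400000

namespace Cfsg.Agent.Core.StableZJ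

open Cfsg Cfsg.Agent Cfsg.Agent.OddLocal

variable {G : Type*} [Group G] [Finite G] {p : ℕ} [hp : Fact p.Prime]

/-- A group without `SL(2, p)` section is `p`-stable in the normalizer form. -/
theorem stable_of_no_section (hp2 : p ≠ 2) {M : Subgroup G} (hM : ¬ Dickson.HasSL2Section p M) :
    IsNormalizerPStable p ↥M := by
  intro P hP g hg hq
  by_contra hno
  by_cases hP1 : P = ⊥
  · apply hno
    have : ((⟨g, hg⟩ : Subgroup.normalizer (P : Set ↥M)) : ↥M) ∈ Subgroup.centralizer (P : Set ↥M) := by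
      rw [Subgroup.mem_centralizer_iff]
      intro x hx
      rw [hP1] at hx
      rw [Subgroup.mem_bot.mp hx, one_mul, mul_one]
    rw [(QuotientGroup.eq_one_iff _).mpr (Subgroup.mem_subgroupOf.mpr this)]
    exact one_mem _
  have hsec := Dickson.section_of_quadratic hp2 hP le_rfl
    (QuotientGroup.mk' ((Subgroup.centralizer (P : Set ↥M)).subgroupOf
      (Subgroup.normalizer (P : Set ↥M)))) (QuotientGroup.mk'_surjective _)
    (fun h => (QuotientGroup.eq_one_iff h).trans Subgroup.mem_subgroupOf) (g := ⟨g, hg⟩) hq hno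
  exact hM ((hsec.map (f := M.subtype) M.subtype_injective).mono (Subgroup.map_subtype_le _))

/-- Every `p`-subgroup centralizing `W` lies in `W`. -/
def PCentric (p : ℕ) (W : Subgroup G) : Prop :=
  ∀ R : Subgroup G, IsPGroup p R → R ≤ Subgroup.centralizer (W : Set G) → R ≤ W

theorem PCentric.mono {W T : Subgroup G} (h : PCentric p W) (hle : W ≤ T) : PCentric p T :=
  fun R hR hC => (h R hR (hC.trans (Subgroup.centralizer_le hle))).trans hle

theorem PCentric.conj {W : Subgroup G} (h : PCentric p W) (g : G) :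
    PCentric p (W.map (MulAut.conj g).toMonoidHom) := by
  intro R hR hC
  have h1 : R.map (MulAut.conj g⁻¹).toMonoidHom ≤ W := by
    refine h _ (hR.map _) ?_
    rintro _ ⟨r, hr, rfl⟩
    refine Subgroup.mem_centralizer_iff.mpr fun w hw => ?_
    have h2 := Subgroup.mem_centralizer_iff.mp (hC hr) _ ⟨w, hw, rfl⟩
    simp only [MulEquiv.coe_toMonoidHom, MulAut.conj_apply, inv_inv] at h2 ⊢
    calc w * (g⁻¹ * r * g) = g⁻¹ * (g * w * g⁻¹ * r) * g := by group
      _ = g⁻¹ * (r * (g * w * g⁻¹)) * g := by rw [h2]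
      _ = g⁻¹ * r * g * w := by group
  intro r hr
  refine ⟨g⁻¹ * r * g, h1 ⟨r, hr, ?_⟩, ?_⟩
  · simp
  · simp [mul_assoc]

theorem PCentric.inf_centralizer_le {W : Subgroup G} (h : PCentric p W) (S : Sylow p G) :
    (S : Subgroup G) ⊓ Subgroup.centralizer ((S : Subgroup G) : Set G) ⊓
      Subgroup.centralizer (W : Set G) ≤ W :=
  h _ (S.2.to_le (inf_le_left.trans inf_le_left)) inf_le_right

/-- Fully normalised centric subgroups contain every `p`-subgroup centralizing them. -/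
theorem pCentric_of_centricIn {S : Sylow p G} {B : Subgroup G}
    (hB : Transfer.FullyNormalizedIn p (S : Subgroup G) B)
    (hc : TwoGroups.CentricIn (S : Subgroup G) B) : PCentric p B := by
  have hsyl : ¬ p ∣ ((S : Subgroup G) ⊓ Subgroup.centralizer (B : Set G)).relIndex
      (⊤ ⊓ Subgroup.centralizer (B : Set G)) :=
    Fusion.centralizer_sylow_of_normalizer_sylow (K := ⊤)
      (S := (S : Subgroup G)) (P := B) le_top (by rw [Fusion.normIn, top_inf_eq]; exact hB.2)
  rw [top_inf_eq] at hsyl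
  intro R hR hC r hr
  obtain ⟨l, hl, hle⟩ := Fusion.exists_conj_le_of_sylow
    (inf_le_right : (S : Subgroup G) ⊓ Subgroup.centralizer (B : Set G) ≤ _) S.2.to_inf_left hsyl hC hR
  have h1 := hle r hr
  have h2 : Fusion.cj l r ∈ B := hc.2 _ h1.1 h1.2
  have h3 : l * r * l⁻¹ ∈ B := h2
  have h4 := Subgroup.mem_centralizer_iff.mp hl _ h3
  rwa [show r = l⁻¹ * ((l * r * l⁻¹) * l) by group, h4, inv_mul_cancel_left]

/-- Alperin's theorem restricted to large centric subgroups. -/
theorem agreesIn_of_large_centric (P : Sylow p G) (N : Subgroup G) {b : ℕ}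
    (h : ∀ B : Subgroup G, Transfer.FullyNormalizedIn p (P : Subgroup G) B → PCentric p B →
      b < Nat.card B → ∀ m ∈ Subgroup.normalizer (B : Set G), AgreesIn N B m)
    {A : Subgroup G} (hA : A ≤ (P : Subgroup G)) (hb : b < Nat.card A) {g : G}
    (hAg : A.map (MulAut.conj g).toMonoidHom ≤ (P : Subgroup G)) : AgreesIn N A g := by
  have hR : Nat.card A ≤ b ∨ AgreesIn N A g := by
    refine TwoGroups.centric_induction P (fun A g => Nat.card A ≤ b ∨ AgreesIn N A g) ?_ ?_ ?_ ?_ ?_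
      hA hAg
    · intro A B g hle hB
      exact hB.imp (fun h' => (Subgroup.card_le_of_le hle).trans h') (fun h' => h'.mono hle)
    · intro A g k hg hk
      rcases hg with hg | hg
      · exact Or.inl hg
      rcases hk with hk | hk
      · exact Or.inl (by rwa [Coprime.card_map_conj] at hk)
      · exact Or.inr (hg.comp hk)
    · intro A g hg
      exact hg.imp (fun h' => by rwa [Coprime.card_map_conj]) (fun h' => h'.inv)
    · intro A g k e hg
      exact hg.imp id fun ⟨n, hn, hna⟩ => ⟨n, hn, fun a ha => (hna a ha).trans (e a ha)⟩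
    · intro B hB hc m hm
      by_cases hb' : b < Nat.card B
      · have hfn := Transfer.FullyNormalizedIn.of_tame hB
        exact Or.inr (h B hfn (pCentric_of_centricIn hfn hc) hb' m hm)
      · exact Or.inl (not_lt.mp hb')
  exact hR.resolve_left (not_le.mpr hb)

/-- **Glauberman**: control of strong fusion from `SL(2, p)`-free normalizers of the subgroups
containing `Z(S)`. -/
theorem agreesIn_of_sl2_free (hp2 : p ≠ 2) (S : Sylow p G)
    (hfree : ∀ P : Subgroup G, (S : Subgroup G) ⊓ Subgroup.centralizer ((S : Subgroup G) : Set G) ≤ P →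
      P ≤ (S : Subgroup G) → ¬ Dickson.HasSL2Section p (Subgroup.normalizer (P : Set G)))
    {A : Subgroup G} (hA : A ≤ (S : Subgroup G)) {g : G}
    (hg : A.map (MulAut.conj g).toMonoidHom ≤ (S : Subgroup G)) :
    AgreesIn (Subgroup.normalizer (centerThompsonAOf (S : Subgroup G) : Set G)) A g := by
  set N := Subgroup.normalizer (centerThompsonAOf (S : Subgroup G) : Set G) with hN
  have hZle : ∀ U : Subgroup G, U ≤ (S : Subgroup G) → PCentric p U →
      (S : Subgroup G) ⊓ Subgroup.centralizer ((S : Subgroup G) : Set G) ≤ U := fun U hU hc =>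
    (le_inf le_rfl (inf_le_right.trans (Subgroup.centralizer_le hU))).trans (hc.inf_centralizer_le S)
  have claim : ∀ d : ℕ, ∀ W : Subgroup G, Transfer.FullyNormalizedIn p (S : Subgroup G) W →
      (S : Subgroup G) ⊓ Subgroup.centralizer ((S : Subgroup G) : Set G) ≤ W →
      PCentric p ((S : Subgroup G) ⊓ Subgroup.normalizer (W : Set G)) →
      Nat.card (S : Subgroup G) - Nat.card ((S : Subgroup G) ⊓ Subgroup.normalizer (W : Set G) : Subgroup G) = d →
      ∀ k ∈ Subgroup.normalizer (W : Set G), ∀ A : Subgroup G,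
        A ≤ (S : Subgroup G) ⊓ Subgroup.normalizer (W : Set G) →
        A.map (MulAut.conj k).toMonoidHom ≤ (S : Subgroup G) → AgreesIn N A k := by
    intro d
    induction d using Nat.strong_induction_on with
    | _ d ihd =>
    intro W hfn hZW hcen hd k hk A hA hAk
    set M := Subgroup.normalizer (W : Set G) with hM
    set T := (S : Subgroup G) ⊓ M with hT
    have hTp : IsPGroup p T := S.2.to_le inf_le_left
    let T' : Sylow p M := (hTp.comap_subtype (K := M)).toSylow hfn.2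
    have hT' : (T' : Subgroup M).map M.subtype = T := Subgroup.map_subgroupOf_eq_of_le inf_le_right
    obtain ⟨m', hm', hma'⟩ := agreesIn_aux_odd hp2 (Nat.card M) (G := M) le_rfl
      (stable_of_no_section hp2 (hfree W hZW hfn.1)) T' (A.subgroupOf M)
      (fun x hx => show (x : G) ∈ T from hA hx) ⟨k, hk⟩ (by
        rintro _ ⟨x, hx, rfl⟩
        exact ⟨hAk ⟨(x : G), hx, rfl⟩, (M.mul_mem (M.mul_mem hk x.2) (M.inv_mem hk))⟩)
    obtain ⟨m, hmM⟩ := m'
    have hmZ : m ∈ Subgroup.normalizer (centerThompsonAOf T : Set G) := by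
      have h1 := Subgroup.le_normalizer_map M.subtype ⟨_, hm', rfl⟩
      rwa [PLocal.centerThompsonAOf_map _ M.subtype_injective.injOn, hT'] at h1
    have hma : ∀ a ∈ A, m * a * m⁻¹ = k * a * k⁻¹ := fun a ha =>
      congrArg Subtype.val (hma' ⟨a, (hA ha).2⟩ ha)
    rcases (inf_le_left : T ≤ (S : Subgroup G)).lt_or_eq with hlt | heq
    swap
    · exact ⟨m, by rw [hN, ← heq]; exact hmZ, hma⟩
    set V := centerThompsonAOf T
    have hVT : V ≤ T := PLocal.centerThompsonAOf_le T
    obtain ⟨h, hfn₂, hh⟩ := Transfer.exists_fullyNormalized_conj S (hVT.trans inf_le_left)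
    set T₁ := (S : Subgroup G) ⊓ Subgroup.normalizer (V : Set G)
    have hlt₁ : T < T₁ := (Transfer.lt_inf_normalizer S.2 hlt).trans_le
      (inf_le_inf_left _ (normalizer_le_ctA T))
    have hcT₁ : Nat.card T < Nat.card T₁ := by
      by_contra hc
      exact hlt₁.ne (Subgroup.eq_of_le_of_card_ge hlt₁.le (not_lt.mp hc))
    have hP₁ : Nat.card T₁ ≤ Nat.card (S : Subgroup G) := Subgroup.card_le_of_le inf_le_left
    obtain ⟨n₀, hn, hna⟩ : AgreesIn N T₁ h := by
      refine agreesIn_of_large_centric S N (b := Nat.card T) (fun B hBfn hBc hbB b' hb' => ?_)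
        inf_le_left hcT₁ hh
      have hBle : B ≤ (S : Subgroup G) ⊓ Subgroup.normalizer (B : Set G) :=
        le_inf hBfn.1 Subgroup.le_normalizer
      refine ihd _ ?_ B hBfn (hZle B hBfn.1 hBc) (hBc.mono hBle) rfl b' hb' B hBle ?_
      · have h1 := Subgroup.card_le_of_le hBle
        have h2 : Nat.card ((S : Subgroup G) ⊓ Subgroup.normalizer (B : Set G) : Subgroup G) ≤
            Nat.card (S : Subgroup G) := Subgroup.card_le_of_le inf_le_left
        omega
      · rintro _ ⟨a, ha, rfl⟩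
        exact hBfn.1 ((Subgroup.mem_normalizer_iff.mp hb' a).mp ha)
    set W₂ := V.map (MulAut.conj h).toMonoidHom with hW₂
    have hW₂eq : V.map (MulAut.conj n₀).toMonoidHom = W₂ :=
      SetLike.coe_injective (Set.image_congr fun w hw =>
        hna w ⟨(hVT.trans inf_le_left) hw, Subgroup.le_normalizer hw⟩)
    have hnmem : ∀ {u : G}, u ∈ Subgroup.normalizer (V : Set G) →
        n₀ * u * n₀⁻¹ ∈ Subgroup.normalizer (W₂ : Set G) := by
      intro u hu
      rw [← hW₂eq, Transfer.normalizer_map_conj]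
      exact ⟨u, hu, rfl⟩
    have hT₁ : ∀ a ∈ T₁, n₀ * a * n₀⁻¹ ∈ (S : Subgroup G) ⊓ Subgroup.normalizer (W₂ : Set G) :=
      fun a ha => ⟨by rw [hna a ha]; exact hh ⟨a, ha, rfl⟩, hnmem ha.2⟩
    have hT₁le : T₁.map (MulAut.conj n₀).toMonoidHom ≤
        (S : Subgroup G) ⊓ Subgroup.normalizer (W₂ : Set G) := by
      rintro _ ⟨a, ha, rfl⟩
      exact hT₁ a ha
    have hTh : T.map (MulAut.conj h).toMonoidHom ≤ (S : Subgroup G) :=
      (Subgroup.map_mono hlt₁.le).trans hh
    have hZW₂ : (S : Subgroup G) ⊓ Subgroup.centralizer ((S : Subgroup G) : Set G) ≤ W₂ := by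
      intro z hz
      obtain ⟨t, ht, rfl⟩ := hZle _ hTh (hcen.conj h) hz
      refine ⟨t, FGS2.MaxCentralizer.mem_centerThompsonAOf ht fun u hu => ?_, rfl⟩
      have h1 := Subgroup.mem_centralizer_iff.mp hz.2 _ (hTh ⟨u, hu, rfl⟩)
      exact (MulAut.conj h).injective (by
        simpa only [map_mul, MulEquiv.coe_toMonoidHom] using h1)
    have hcen₂ : PCentric p ((S : Subgroup G) ⊓ Subgroup.normalizer (W₂ : Set G)) :=
      (hcen.conj n₀).mono ((Subgroup.map_mono hlt₁.le).trans hT₁le)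
    have hmA : ∀ a ∈ A, m * a * m⁻¹ ∈ T₁ := fun a ha => hlt₁.le (by
      rw [hma a ha]
      exact ⟨hAk ⟨a, ha, rfl⟩, M.mul_mem (M.mul_mem hk (hA ha).2) (M.inv_mem hk)⟩)
    have hle₂ : Nat.card T₁ ≤
        Nat.card ((S : Subgroup G) ⊓ Subgroup.normalizer (W₂ : Set G) : Subgroup G) := by
      rw [← Coprime.card_map_conj T₁ n₀]
      exact Subgroup.card_le_of_le hT₁le
    have hP₂ : Nat.card ((S : Subgroup G) ⊓ Subgroup.normalizer (W₂ : Set G) : Subgroup G) ≤
        Nat.card (S : Subgroup G) := Subgroup.card_le_of_le inf_le_left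
    obtain ⟨n₂, hn₂, hna₂⟩ : AgreesIn N (A.map (MulAut.conj n₀).toMonoidHom) (n₀ * m * n₀⁻¹) := by
      refine ihd _ ?_ W₂ hfn₂ hZW₂ hcen₂ rfl _ (hnmem hmZ) _ ?_ ?_
      · omega
      · rintro _ ⟨a, ha, rfl⟩
        exact hT₁ a (hlt₁.le (hA ha))
      · rintro _ ⟨_, ⟨a, ha, rfl⟩, rfl⟩
        show n₀ * m * n₀⁻¹ * (n₀ * a * n₀⁻¹) * (n₀ * m * n₀⁻¹)⁻¹ ∈ (S : Subgroup G)
        rw [show n₀ * m * n₀⁻¹ * (n₀ * a * n₀⁻¹) * (n₀ * m * n₀⁻¹)⁻¹ =
          n₀ * (m * a * m⁻¹) * n₀⁻¹ by group]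
        exact (hT₁ _ (hmA a ha)).1
    refine ⟨n₀⁻¹ * n₂ * n₀, N.mul_mem (N.mul_mem (N.inv_mem hn) hn₂) hn, fun a ha => ?_⟩
    have e1 := hna₂ _ ⟨a, ha, rfl⟩
    simp only [MulEquiv.coe_toMonoidHom, MulAut.conj_apply] at e1
    calc n₀⁻¹ * n₂ * n₀ * a * (n₀⁻¹ * n₂ * n₀)⁻¹ = n₀⁻¹ * (n₂ * (n₀ * a * n₀⁻¹) * n₂⁻¹) * n₀ := by group
      _ = n₀⁻¹ * (n₀ * m * n₀⁻¹ * (n₀ * a * n₀⁻¹) * (n₀ * m * n₀⁻¹)⁻¹) * n₀ := by rw [e1]
      _ = m * a * m⁻¹ := by group
      _ = k * a * k⁻¹ := hma a ha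
  refine agreesIn_of_large_centric S N (b := 0) (fun B hBfn hBc _ m hm => ?_) hA Nat.card_pos hg
  refine claim _ B hBfn (hZle B hBfn.1 hBc) (hBc.mono (le_inf hBfn.1 Subgroup.le_normalizer)) rfl m hm B
    (le_inf hBfn.1 Subgroup.le_normalizer) ?_
  rintro _ ⟨a, ha, rfl⟩
  exact hBfn.1 ((Subgroup.mem_normalizer_iff.mp hm a).mp ha)

end Cfsg.Agent.Core.StableZJ
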